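import Groth.Agent.L21.Smooth.Scheme
import Groth.Agent.L01.Regular
import Groth.Agent.L19.IntegralHom
import Mathlib.AlgebraicGeometry.Morphisms.LocalFlatDescent
import Mathlib.AlgebraicGeometry.Morphisms.Integral
import Mathlib.FieldTheory.IsAlgClosed.AlgebraicClosure
import Mathlib.RingTheory.Smooth.Fiber
import Mathlib.RingTheory.Unramified.LocalRing
import Mathlib.RingTheory.Jacobson.Ring
import Mathlib.RingTheory.Flat.TorsionFree
import Mathlib.RingTheory.Flat.FaithfullyFlat.Algebra

/-!
Smoothness of curves descends along flat surjective morphisms.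
-/

set_option autoImplicit false
universe u

open CategoryTheory Limits AlgebraicGeometry TopologicalSpace IsLocalRing Polynomial

namespace Groth.L21.SmoothDescent

theorem exists_isDomain_away {A : Type u} [CommRing A] [IsNoetherianRing A] (q : Ideal A) [q.IsPrime]
    [IsDomain (Localization.AtPrime q)] : ∃ g ∉ q, IsDomain (Localization.Away g) := by
  classical
  let P : Ideal A := RingHom.ker (algebraMap A (Localization.AtPrime q))
  obtain ⟨T, hT⟩ := (IsNoetherian.noetherian P : P.FG)
  have hs : ∀ t : T, ∃ s : q.primeCompl, (s : A) * t = 0 := fun t => by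
    have h : algebraMap A (Localization.AtPrime q) (t : A) = 0 :=
      RingHom.mem_ker.mp (hT.le (Submodule.subset_span t.2))
    exact (IsLocalization.map_eq_zero_iff q.primeCompl _ _).mp h
  choose s hs using hs
  let g : q.primeCompl := ∏ t : T, s t
  have hgP : ∀ a ∈ P, (g : A) * a = 0 := by
    intro a ha
    rw [← hT] at ha
    induction ha using Submodule.span_induction with
    | mem x hx =>
      obtain ⟨d, hd⟩ : s ⟨x, hx⟩ ∣ g := Finset.dvd_prod_of_mem s (Finset.mem_univ _)
      have := hs ⟨x, hx⟩
      rw [hd, Submonoid.coe_mul, mul_right_comm, this, zero_mul]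
    | zero => rw [mul_zero]
    | add x y _ _ hx hy => rw [mul_add, hx, hy, add_zero]
    | smul r x _ hx => rw [smul_eq_mul, mul_left_comm, hx, mul_zero]
  refine ⟨g, g.2, ?_⟩
  let ψ : Localization.Away (g : A) →+* Localization.AtPrime q :=
    IsLocalization.Away.lift (g : A) (g := algebraMap A (Localization.AtPrime q))
      (IsLocalization.map_units (Localization.AtPrime q) g)
  refine Function.Injective.isDomain ψ ((injective_iff_map_eq_zero ψ).mpr fun z hz => ?_)
  obtain ⟨a, ⟨_, n, rfl⟩, rfl⟩ := IsLocalization.exists_mk'_eq (Submonoid.powers (g : A)) z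
  rw [IsLocalization.mk'_eq_zero_iff]
  refine ⟨⟨(g : A), 1, pow_one _⟩, hgP a ?_⟩
  have h2 := congrArg ψ (IsLocalization.mk'_spec (Localization.Away (g : A)) a
    (⟨(g : A) ^ n, n, rfl⟩ : Submonoid.powers (g : A)))
  rw [map_mul, hz, zero_mul] at h2
  exact RingHom.mem_ker.mpr (by simpa [ψ] using h2.symm)

theorem isPrincipal_of_dim_le_one {B : Type u} [CommRing B] [IsRegularLocalRing B]
    (h : ringKrullDim B ≤ 1) : (maximalIdeal B).IsPrincipal := by
  have h1 : (maximalIdeal B).spanFinrank ≤ 1 := by
    rw [← IsRegularLocalRing.spanFinrank_maximalIdeal (R := B)] at h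
    exact_mod_cast h
  obtain ⟨s, hs, hcard, hfin⟩ : ∃ s : Set B, Ideal.span s = maximalIdeal B ∧
      s.ncard ≤ 1 ∧ s.Finite := by
    have hfg : (maximalIdeal B).FG := IsNoetherian.noetherian _
    exact ⟨_, Submodule.span_generators _, (Submodule.FG.generators_ncard hfg).trans_le h1,
      Submodule.FG.finite_generators hfg⟩
  haveI := hfin.to_subtype
  rcases (Set.ncard_le_one_iff_subsingleton.mp hcard).eq_empty_or_singleton with rfl | ⟨b, rfl⟩
  · exact ⟨0, by rw [← hs, Ideal.span_empty]; exact Submodule.span_zero_singleton B |>.symm⟩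
  · exact ⟨b, hs.symm⟩

theorem isDomain_and_isPrincipal_of_flat (A B : Type u) [CommRing A] [CommRing B] [IsLocalRing A]
    [IsLocalRing B] [IsNoetherianRing A] [IsNoetherianRing B] [IsDomain B] [Algebra A B]
    [IsLocalHom (algebraMap A B)] [Module.Flat A B] (hB : (maximalIdeal B).IsPrincipal) :
    IsDomain A ∧ (maximalIdeal A).IsPrincipal := by
  classical
  haveI : Module.FaithfullyFlat A B := Module.FaithfullyFlat.of_flat_of_isLocalHom
  haveI : IsDomain A := Function.Injective.isDomain (algebraMap A B)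
    (FaithfulSMul.algebraMap_injective A B)
  refine ⟨inferInstance, ?_⟩
  haveI : IsPrincipalIdealRing B := (tfae_of_isNoetherianRing_of_isLocalRing_of_isDomain B).out 4 0 |>.mp hB
  obtain ⟨b, hb'⟩ := (IsPrincipalIdealRing.principal ((maximalIdeal A).map (algebraMap A B))).principal
  have hb : (maximalIdeal A).map (algebraMap A B) = Ideal.span {b} := hb'
  clear hb'
  rcases eq_or_ne b 0 with rfl | hb0
  · refine ⟨0, ?_⟩
    rw [← Ideal.comap_map_eq_self_of_faithfullyFlat (B := B) (maximalIdeal A), hb,
      Ideal.span_singleton_zero, ← RingHom.ker_eq_comap_bot,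
      (RingHom.injective_iff_ker_eq_bot _).mp (FaithfulSMul.algebraMap_injective A B)]
    exact (Submodule.span_zero_singleton A).symm
  obtain ⟨a, ha, u, hu, hau⟩ : ∃ a ∈ maximalIdeal A, ∃ u : B, IsUnit u ∧ algebraMap A B a = u * b := by
    by_contra hcon
    have hsub : (maximalIdeal A).map (algebraMap A B) ≤ maximalIdeal B * Ideal.span {b} := by
      rw [Ideal.map_le_iff_le_comap]
      intro a ha
      have h1 : algebraMap A B a ∈ Ideal.span {b} := hb ▸ Ideal.mem_map_of_mem _ ha
      obtain ⟨c, hc⟩ := Ideal.mem_span_singleton'.mp h1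
      rw [Ideal.mem_comap, ← hc]
      exact Ideal.mul_mem_mul ((mem_maximalIdeal c).mpr fun hu => hcon ⟨a, ha, c, hu, hc.symm⟩)
        (Ideal.mem_span_singleton_self b)
    obtain ⟨m, hm, hmb⟩ := Ideal.mem_mul_span_singleton.mp (hsub (hb ▸ Submodule.mem_span_singleton_self b :
      b ∈ (maximalIdeal A).map (algebraMap A B)))
    have : m = 1 := mul_right_cancel₀ hb0 (hmb.trans (one_mul b).symm)
    exact (maximalIdeal.isMaximal B).ne_top ((Ideal.eq_top_iff_one _).mpr (this ▸ hm))
  refine ⟨a, ?_⟩
  have hmap : (maximalIdeal A).map (algebraMap A B) = (Ideal.span {a}).map (algebraMap A B) := by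
    rw [Ideal.map_span, Set.image_singleton, hau, Ideal.span_singleton_mul_left_unit hu, hb]
  have := congrArg (Ideal.comap (algebraMap A B)) hmap
  rwa [Ideal.comap_map_eq_self_of_faithfullyFlat, Ideal.comap_map_eq_self_of_faithfullyFlat] at this

/-- A domain of finite type over a field is smooth at maximal ideals where the local ring has
principal maximal ideal and separable residue field. -/
theorem isSmoothAt_of_isPrincipal_of_isSeparable (K A : Type u) [Field K] [CommRing A] [IsDomain A]
    [Algebra K A] [Algebra.FiniteType K A] (q : Ideal A) [q.IsMaximal]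
    [Algebra.IsSeparable K q.ResidueField]
    (h : (maximalIdeal (Localization.AtPrime q)).IsPrincipal) : Algebra.IsSmoothAt K q := by
  classical
  haveI : IsNoetherianRing A := Algebra.FiniteType.isNoetherianRing K A
  obtain ⟨π, hπ⟩ := h.principal
  obtain ⟨⟨a, s⟩, has⟩ := IsLocalization.surj q.primeCompl π
  dsimp at has
  have hspan : Ideal.span {algebraMap A (Localization.AtPrime q) a} = maximalIdeal _ := by
    rw [← has, Ideal.span_singleton_mul_right_unit (IsLocalization.map_units _ s)]
    exact hπ.symm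
  by_cases ha : algebraMap A (Localization.AtPrime q) a = 0
  · have hf : IsField (Localization.AtPrime q) := IsLocalRing.isField_iff_maximalIdeal_eq.mpr
      (by rw [← hspan, ha, Ideal.span_singleton_zero])
    have hr : Function.Bijective (IsScalarTower.toAlgHom K (Localization.AtPrime q) q.ResidueField) :=
      ⟨(RingHom.injective_iff_ker_eq_bot (IsLocalRing.residue (Localization.AtPrime q))).mpr (by
        rw [IsLocalRing.ker_residue]; exact IsLocalRing.isField_iff_maximalIdeal_eq.mp hf),
        IsLocalRing.residue_surjective⟩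
    haveI : Algebra.FormallyEtale K q.ResidueField := Algebra.FormallyEtale.of_isSeparable K _
    exact Algebra.FormallySmooth.of_equiv (AlgEquiv.ofBijective _ hr).symm
  letI : Algebra K[X] A := (Polynomial.aeval a).toRingHom.toAlgebra
  haveI : IsScalarTower K K[X] A := IsScalarTower.of_algebraMap_eq fun c =>
    ((Polynomial.aeval a).commutes c).symm
  have hinjq : Function.Injective (algebraMap A (Localization.AtPrime q)) :=
    IsLocalization.injective _ q.primeCompl_le_nonZeroDivisors
  have ha0 : a ≠ 0 := fun e => ha (by rw [e, map_zero])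
  have haq : a ∈ q := (IsLocalization.AtPrime.to_map_mem_maximal_iff (Localization.AtPrime q) q a).mp
    (hspan ▸ Ideal.mem_span_singleton_self _)
  haveI : Module.IsTorsionFree K[X] A := Module.isTorsionFree_iff_algebraMap_injective.mpr
    ((injective_iff_map_eq_zero _).mpr fun p (hp : Polynomial.aeval a p = 0) => by
      by_contra hp0
      obtain ⟨r, hr, hr0⟩ := Polynomial.exists_eq_pow_rootMultiplicity_mul_and_not_dvd p hp0 0
      rw [map_zero, sub_zero] at hr hr0
      rw [hr, map_mul, map_pow, Polynomial.aeval_X] at hp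
      have hr' : Polynomial.aeval a r = 0 := (mul_eq_zero.mp hp).resolve_left (pow_ne_zero _ ha0)
      rw [Polynomial.X_dvd_iff] at hr0
      have hmem : algebraMap K A (r.coeff 0) ∈ q := by
        have h1 := Polynomial.X_mul_divX_add r
        have h2 := congrArg (Polynomial.aeval a) h1
        rw [map_add, map_mul, Polynomial.aeval_X, Polynomial.aeval_C, hr'] at h2
        rw [eq_neg_of_add_eq_zero_right h2]
        exact q.neg_mem (q.mul_mem_right _ haq)
      exact (inferInstance : q.IsMaximal).ne_top
        (q.eq_top_of_isUnit_mem hmem ((isUnit_iff_ne_zero.mpr hr0).map _)))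
  haveI : Module.Flat K[X] A := inferInstance
  haveI : Algebra.FiniteType K[X] A := Algebra.FiniteType.of_restrictScalars_finiteType K K[X] A
  haveI : Algebra.FinitePresentation K[X] A := Algebra.FinitePresentation.of_finiteType.mp inferInstance
  let p : Ideal K[X] := q.under K[X]
  haveI : p.IsPrime := Ideal.IsPrime.under K[X] q
  letI := Localization.AtPrime.algebraOfLiesOver p q
  haveI : IsScalarTower K p.ResidueField q.ResidueField := IsScalarTower.of_algebraMap_eq fun c => by
    rw [IsScalarTower.algebraMap_apply K K[X] q.ResidueField,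
      IsScalarTower.algebraMap_apply K[X] p.ResidueField q.ResidueField,
      IsScalarTower.algebraMap_apply K K[X] p.ResidueField]
  haveI : Algebra.IsSeparable p.ResidueField q.ResidueField :=
    Algebra.isSeparable_tower_top_of_isSeparable K p.ResidueField q.ResidueField
  haveI : Algebra.IsUnramifiedAt K[X] q := (Algebra.isUnramifiedAt_iff_map_eq K[X] p q).mpr
    ⟨inferInstance, le_antisymm (by
      rw [Ideal.map_le_iff_le_comap]
      intro r hr
      rw [Ideal.mem_comap, IsScalarTower.algebraMap_apply K[X] A (Localization.AtPrime q)]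
      exact (IsLocalization.AtPrime.to_map_mem_maximal_iff (Localization.AtPrime q) q _).mpr hr) (by
      rw [← hspan, Ideal.span_le, Set.singleton_subset_iff]
      have : algebraMap A (Localization.AtPrime q) a = algebraMap K[X] (Localization.AtPrime q) X := by
        rw [IsScalarTower.algebraMap_apply K[X] A (Localization.AtPrime q)]
        exact congrArg _ (Polynomial.aeval_X a).symm
      rw [SetLike.mem_coe, this]
      refine Ideal.mem_map_of_mem _ ?_
      show Polynomial.aeval a X ∈ q
      rwa [Polynomial.aeval_X])⟩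
  haveI := Algebra.IsEtaleAt.of_isUnramifiedAt_of_flat (R := K[X]) q
  haveI : Algebra.FormallySmooth K[X] (Localization.AtPrime q) := inferInstance
  exact Algebra.FormallySmooth.comp K K[X] (Localization.AtPrime q)

/-- A domain of finite type over an algebraically closed field is smooth at maximal ideals where the
local ring has principal maximal ideal. -/
theorem isSmoothAt_of_isPrincipal (K A : Type u) [Field K] [IsAlgClosed K] [CommRing A] [IsDomain A]
    [Algebra K A] [Algebra.FiniteType K A] (q : Ideal A) [q.IsMaximal]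
    (h : (maximalIdeal (Localization.AtPrime q)).IsPrincipal) : Algebra.IsSmoothAt K q := by
  letI : Field (A ⧸ q) := Ideal.Quotient.field q
  haveI : Module.Finite K (A ⧸ q) := finite_of_finite_type_of_isJacobsonRing K (A ⧸ q)
  haveI : Algebra.IsSeparable K q.ResidueField := ⟨fun z => by
    obtain ⟨a, rfl⟩ := q.algebraMap_residueField_surjective z
    obtain ⟨c, hc⟩ := (IsAlgClosed.algebraMap_bijective_of_isIntegral (k := K) (K := A ⧸ q)).2
      (Ideal.Quotient.mk q a)
    have : algebraMap A q.ResidueField a = algebraMap K q.ResidueField c := by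
      rw [IsScalarTower.algebraMap_apply K (A ⧸ q) q.ResidueField, hc,
        IsScalarTower.algebraMap_apply A (A ⧸ q) q.ResidueField]
      rfl
    rw [this]
    exact isSeparable_algebraMap c⟩
  exact isSmoothAt_of_isPrincipal_of_isSeparable K A q h

theorem ringKrullDim_stalk_le {X : Scheme.{u}} (x : X) :
    ringKrullDim (X.presheaf.stalk x) ≤ topologicalKrullDim X := by
  obtain ⟨V, hV, hx, -⟩ := exists_isAffineOpen_mem_and_subset (X := X) (U := ⊤) (Opens.mem_top x)
  letI := X.presheaf.algebra_section_stalk ⟨x, hx⟩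
  haveI := hV.isLocalization_stalk ⟨x, hx⟩
  rw [IsLocalization.AtPrime.ringKrullDim_eq_height (hV.primeIdealOf ⟨x, hx⟩).asIdeal (X.presheaf.stalk x)]
  calc ((hV.primeIdealOf ⟨x, hx⟩).asIdeal.height : WithBot ℕ∞) ≤ ringKrullDim Γ(X, V) :=
        Ideal.height_le_ringKrullDim_of_ne_top (hV.primeIdealOf ⟨x, hx⟩).isPrime.ne_top
    _ = topologicalKrullDim (PrimeSpectrum Γ(X, V)) :=
        (PrimeSpectrum.topologicalKrullDim_eq_ringKrullDim Γ(X, V)).symm
    _ ≤ _ := hV.fromSpec.isOpenEmbedding.isInducing.topologicalKrullDim_le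

theorem exists_isAffineOpen_isDomain {Y : Scheme.{u}} [IsLocallyNoetherian Y] (y : Y)
    [IsDomain (Y.presheaf.stalk y)] :
    ∃ V : Y.Opens, IsAffineOpen V ∧ y ∈ V ∧ IsDomain Γ(Y, V) := by
  obtain ⟨W, hW, hy, -⟩ := exists_isAffineOpen_mem_and_subset (X := Y) (U := ⊤) (Opens.mem_top y)
  haveI : IsNoetherianRing Γ(Y, W) := IsLocallyNoetherian.component_noetherian ⟨W, hW⟩
  letI := Y.presheaf.algebra_section_stalk ⟨y, hy⟩
  haveI := hW.isLocalization_stalk ⟨y, hy⟩
  set q := (hW.primeIdealOf ⟨y, hy⟩).asIdeal
  haveI : IsDomain (Localization.AtPrime q) :=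
    (IsLocalization.algEquiv q.primeCompl (Localization.AtPrime q) (Y.presheaf.stalk y)).toRingEquiv.toMulEquiv.isDomain
  obtain ⟨g, hg, hd⟩ := exists_isDomain_away q
  refine ⟨Y.basicOpen g, hW.basicOpen g, ?_, ?_⟩
  · have h : hW.primeIdealOf ⟨y, hy⟩ ∈ hW.fromSpec ⁻¹ᵁ Y.basicOpen g := by
      rw [hW.fromSpec_preimage_basicOpen]; exact hg
    have h2 : hW.fromSpec (hW.primeIdealOf ⟨y, hy⟩) = y := hW.fromSpec_primeIdealOf ⟨y, hy⟩
    exact h2 ▸ h
  · haveI := hW.isLocalization_basicOpen g
    exact (IsLocalization.algEquiv (Submonoid.powers g) Γ(Y, Y.basicOpen g)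
      (Localization.Away g)).toRingEquiv.toMulEquiv.isDomain

theorem isClosed_primeIdealOf {X : Scheme.{u}} {V : X.Opens} (hV : IsAffineOpen V) {x : X} (hx : x ∈ V)
    (hc : IsClosed ({x} : Set X)) : (hV.primeIdealOf ⟨x, hx⟩).asIdeal.IsMaximal := by
  rw [← PrimeSpectrum.isClosed_singleton_iff_isMaximal]
  have h := hV.fromSpec_primeIdealOf ⟨x, hx⟩
  have : ({hV.primeIdealOf ⟨x, hx⟩} : Set (Spec Γ(X, V))) = hV.fromSpec ⁻¹' {x} := by
    ext z
    simp only [Set.mem_singleton_iff, Set.mem_preimage]
    exact ⟨fun hz => hz ▸ h, fun hz => hV.fromSpec.isOpenEmbedding.injective (hz.trans h.symm)⟩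
  exact this ▸ hc.preimage hV.fromSpec.continuous

/-- A scheme over an algebraically closed field whose closed stalks are domains with principal
maximal ideals is smooth. -/
theorem smooth_of_principal {K : Type u} [Field K] [IsAlgClosed K] {Y : Scheme.{u}}
    (f : Y ⟶ Spec (CommRingCat.of K)) [LocallyOfFiniteType f]
    (h : ∀ y : Y, IsClosed ({y} : Set Y) →
      IsDomain (Y.presheaf.stalk y) ∧ (maximalIdeal (Y.presheaf.stalk y)).IsPrincipal) : Smooth f := by
  haveI : IsLocallyNoetherian Y := LocallyOfFiniteType.isLocallyNoetherian f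
  haveI : LocallyOfFinitePresentation f := inferInstance
  haveI : JacobsonSpace Y := LocallyOfFiniteType.jacobsonSpace f
  rw [← Scheme.Hom.smoothLocus_eq_top_iff, ← top_le_iff]
  intro z _
  by_contra hz
  obtain ⟨y, hy, hyc⟩ : ∃ y ∈ ((f.smoothLocus : Set Y))ᶜ, IsClosed ({y} : Set Y) := by
    have hne : ((f.smoothLocus : Set Y))ᶜ.Nonempty := ⟨z, hz⟩
    rw [← closure_inter_closedPoints f.smoothLocus.isOpen.isClosed_compl] at hne
    obtain ⟨y, hy1, hy2⟩ := closure_nonempty_iff.mp hne
    exact ⟨y, hy1, hy2⟩
  obtain ⟨hd, hp⟩ := h y hyc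
  obtain ⟨V, hV, hyV, hVd⟩ := exists_isAffineOpen_isDomain y
  haveI := isClosed_primeIdealOf hV hyV hyc
  let e : K ≃+* Γ(Spec (CommRingCat.of K), ⊤) := (Scheme.ΓSpecIso (CommRingCat.of K)).symm.commRingCatIsoToRingEquiv
  letI : Field Γ(Spec (CommRingCat.of K), ⊤) := (e.symm.toMulEquiv.isField (Field.toIsField K)).toField
  haveI : IsAlgClosed Γ(Spec (CommRingCat.of K), ⊤) := IsAlgClosed.of_ringEquiv K _ e
  apply hy
  show y ∈ f.smoothLocus
  rw [Scheme.Hom.mem_smoothLocus, formallySmooth_stalkMap_iff ⊤ (isAffineOpen_top _) V hV le_top hyV]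
  have hft := f.finiteType_appLE (isAffineOpen_top _) hV (le_top : V ≤ f ⁻¹ᵁ ⊤)
  letI := (f.appLE ⊤ V le_top).hom.toAlgebra
  haveI : Algebra.FiniteType Γ(Spec (CommRingCat.of K), ⊤) Γ(Y, V) := hft
  set q := (hV.primeIdealOf ⟨y, hyV⟩).asIdeal
  letI := Y.presheaf.algebra_section_stalk ⟨y, hyV⟩
  haveI := hV.isLocalization_stalk ⟨y, hyV⟩
  refine isSmoothAt_of_isPrincipal Γ(Spec (CommRingCat.of K), ⊤) Γ(Y, V) q ?_
  obtain ⟨π, hπ⟩ := hp.principal
  let ψ := (IsLocalization.algEquiv q.primeCompl (Y.presheaf.stalk y) (Localization.AtPrime q)).toRingEquiv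
  refine ⟨ψ π, ?_⟩
  have hm : maximalIdeal (Localization.AtPrime q) = (maximalIdeal (Y.presheaf.stalk y)).map ψ.toRingHom :=
    (IsLocalRing.eq_maximalIdeal (Ideal.map_isMaximal_of_equiv ψ)).symm
  rw [hm, hπ]
  exact (Ideal.map_span ψ.toRingHom {π}).trans (by rw [Set.image_singleton]; rfl)

/-- Smoothness descends along flat surjective morphisms from smooth schemes of dimension at most
one. -/
theorem smooth_of_flat_surjective {k : Type u} [Field k] {X Y : Scheme.{u}}
    (f : X ⟶ Y) (pY : Y ⟶ Spec (CommRingCat.of k)) [LocallyOfFiniteType pY] [Flat f] [Surjective f]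
    [Smooth (f ≫ pY)] (hdim : topologicalKrullDim X ≤ 1) : Smooth pY := by
  let K := AlgebraicClosure k
  let φ : CommRingCat.of k ⟶ CommRingCat.of K := CommRingCat.ofHom (algebraMap k K)
  let g : Spec (CommRingCat.of K) ⟶ Spec (CommRingCat.of k) := Spec.map φ
  haveI : IsIntegralHom g := IsIntegralHom.SpecMap_iff.mpr
    (algebraMap_isIntegral_iff.mpr (inferInstance : Algebra.IsIntegral k K))
  haveI : Surjective g := ⟨fun p => ⟨(IsLocalRing.closedPoint K : PrimeSpectrum K),
    Subsingleton.elim (α := PrimeSpectrum k) _ _⟩⟩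
  haveI : Flat g := (HasRingHomProperty.Spec_iff (P := @Flat)).mpr
    (RingHom.flat_algebraMap_iff.mpr (inferInstance : Module.Flat k K))
  suffices Smooth (pullback.fst g pY) from
    MorphismProperty.of_pullback_fst_of_descendsAlong (P := @Smooth)
      (Q := @Surjective ⊓ @Flat ⊓ @QuasiCompact) (f := g) ⟨⟨‹_›, ‹_›⟩, inferInstance⟩ this
  let f' := pullback.snd f (pullback.snd g pY)
  have hsm : Smooth (f' ≫ pullback.fst g pY) := by
    have h := (IsPullback.of_hasPullback f (pullback.snd g pY)).paste_vert
      (IsPullback.of_hasPullback g pY).flip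
    exact MorphismProperty.of_isPullback (P := @Smooth) h inferInstance
  haveI : Flat f' := inferInstance
  haveI : Surjective f' := inferInstance
  haveI : LocallyOfFiniteType (pullback.fst g pY) := inferInstance
  haveI : IsLocallyNoetherian (pullback g pY) := LocallyOfFiniteType.isLocallyNoetherian (pullback.fst g pY)
  haveI : LocallyOfFiniteType (f' ≫ pullback.fst g pY) := inferInstance
  haveI : IsLocallyNoetherian (pullback f (pullback.snd g pY)) :=
    LocallyOfFiniteType.isLocallyNoetherian (f' ≫ pullback.fst g pY)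
  haveI : IsIntegralHom (pullback.snd g pY) := inferInstance
  have hdim' : topologicalKrullDim ↥(pullback f (pullback.snd g pY)) ≤ 1 :=
    (Groth.L19.topologicalKrullDim_le_of_isIntegralHom (pullback.fst f (pullback.snd g pY))).trans hdim
  refine smooth_of_principal (pullback.fst g pY) fun y _ => ?_
  obtain ⟨x, hx⟩ := f'.surjective y
  subst hx
  haveI := Groth.L21.Smooth.regular_stalk (f' ≫ pullback.fst g pY) x
  haveI := Groth.L21.Smooth.isDomain_stalk (f' ≫ pullback.fst g pY) x
  have hp := isPrincipal_of_dim_le_one ((ringKrullDim_stalk_le x).trans hdim')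
  letI := (f'.stalkMap x).hom.toAlgebra
  haveI : IsLocalHom (algebraMap ((pullback g pY).presheaf.stalk (f' x))
      ((pullback f (pullback.snd g pY)).presheaf.stalk x)) :=
    inferInstanceAs (IsLocalHom (f'.stalkMap x).hom)
  haveI : Module.Flat ((pullback g pY).presheaf.stalk (f' x))
      ((pullback f (pullback.snd g pY)).presheaf.stalk x) := Flat.stalkMap f' x
  exact isDomain_and_isPrincipal_of_flat _ _ hp

end Groth.L21.SmoothDescent
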