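import Groth.Agent.L21.Curve.DVR
import Groth.Agent.L21.CurveTop
import Groth.Agent.L18.Domination
import Mathlib.AlgebraicGeometry.Morphisms.FinitePresentation
import Mathlib.RingTheory.Valuation.ValuationRing

/-!
Birational morphisms to normal curves from separated integral schemes are open immersions.
-/

set_option autoImplicit false
universe u

open CategoryTheory AlgebraicGeometry TopologicalSpace IsLocalRing

namespace Groth.L21.Curve

variable {X Y : Scheme.{u}} [IsIntegral X] [IsIntegral Y] (f : X ⟶ Y)
  (e : f (genericPoint X) = genericPoint Y)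

/-- The map of function fields of a morphism mapping generic point to generic point. -/
noncomputable def ffMap : Y.functionField →+* X.functionField :=
  (Y.presheaf.stalkSpecializes (specializes_of_eq e) ≫ f.stalkMap (genericPoint X)).hom

theorem algebraMap_stalkMap (x : X) (b : Y.presheaf.stalk (f x)) :
    algebraMap (X.presheaf.stalk x) X.functionField (f.stalkMap x b) =
      ffMap f e (algebraMap (Y.presheaf.stalk (f x)) Y.functionField b) := by
  have hη : genericPoint X ⤳ x := (genericPoint_spec X).specializes trivial
  have h1 := ConcreteCategory.congr_hom (f.stalkSpecializes_stalkMap _ _ hη) b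
  refine h1.symm.trans ?_
  show f.stalkMap (genericPoint X) (Y.presheaf.stalkSpecializes _ b) =
    f.stalkMap (genericPoint X) (Y.presheaf.stalkSpecializes (specializes_of_eq e)
      (Y.presheaf.stalkSpecializes _ b))
  congr 1
  exact (ConcreteCategory.congr_hom (Y.presheaf.stalkSpecializes_comp (specializes_of_eq e)
    ((genericPoint_spec Y).specializes trivial)) b).symm

variable (hbij : Function.Bijective (ffMap f e))
include hbij

/-- Birational morphisms are isomorphisms on stalks wherever the target stalk is a valuation ring. -/
theorem bijective_stalkMap (x : X) [IsDomain (Y.presheaf.stalk (f x))]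
    [ValuationRing (Y.presheaf.stalk (f x))] : Function.Bijective (f.stalkMap x) := by
  have hinjY : Function.Injective (algebraMap (Y.presheaf.stalk (f x)) Y.functionField) :=
    IsFractionRing.injective _ _
  have hinjX : Function.Injective (algebraMap (X.presheaf.stalk x) X.functionField) :=
    IsFractionRing.injective _ _
  refine ⟨fun a b h => hinjY (hbij.1 ?_), fun a => ?_⟩
  · rw [← algebraMap_stalkMap, ← algebraMap_stalkMap, h]
  · obtain ⟨c, hc⟩ := hbij.2 (algebraMap (X.presheaf.stalk x) X.functionField a)
    rcases ValuationRing.isInteger_or_isInteger (Y.presheaf.stalk (f x)) c with ⟨b, hb⟩ | ⟨b, hb⟩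
    · exact ⟨b, hinjX (by rw [algebraMap_stalkMap f e, hb, hc])⟩
    · rcases eq_or_ne c 0 with rfl | hc0
      · exact ⟨0, hinjX (by rw [map_zero, map_zero, ← hc, map_zero])⟩
      have h1 : f.stalkMap x b * a = 1 := hinjX (by
        rw [map_mul, algebraMap_stalkMap f e, hb, ← hc, ← map_mul, inv_mul_cancel₀ hc0, map_one, map_one])
      have hu : IsUnit b := isUnit_of_map_unit (f.stalkMap x).hom b (IsUnit.of_mul_eq_one a h1)
      obtain ⟨v, hv⟩ := hu.exists_right_inv
      refine ⟨v, ?_⟩
      calc f.stalkMap x v = f.stalkMap x v * (f.stalkMap x b * a) := by rw [h1, mul_one]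
        _ = f.stalkMap x (b * v) * a := by rw [map_mul]; ring
        _ = a := by rw [hv, map_one, one_mul]

/-- A birational morphism to a curve with valuation rings as stalks is injective. -/
theorem injective_base [X.IsSeparated] (hv : ∀ y : Y, ∃ _ : IsDomain (Y.presheaf.stalk y), ValuationRing (Y.presheaf.stalk y)) :
    Function.Injective f := by
  have key : ∀ x : X, ((algebraMap (X.presheaf.stalk x) X.functionField).range : Set X.functionField) =
      ffMap f e '' Set.range (algebraMap (Y.presheaf.stalk (f x)) Y.functionField) := by
    intro x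
    obtain ⟨hd, hvx⟩ := hv (f x)
    ext z
    constructor
    · rintro ⟨a, rfl⟩
      obtain ⟨b, rfl⟩ := (bijective_stalkMap f e hbij x).2 a
      exact ⟨_, ⟨b, rfl⟩, (algebraMap_stalkMap f e x b).symm⟩
    · rintro ⟨_, ⟨b, rfl⟩, rfl⟩
      exact ⟨f.stalkMap x b, algebraMap_stalkMap f e x b⟩
  intro x₁ x₂ h
  have h2 : ∀ {y₁ y₂ : Y}, y₁ = y₂ → Set.range (algebraMap (Y.presheaf.stalk y₁) Y.functionField) =
      Set.range (algebraMap (Y.presheaf.stalk y₂) Y.functionField) := by
    rintro y₁ y₂ rfl; rfl
  have hr : LocalSubring.range (algebraMap (X.presheaf.stalk x₁) X.functionField) =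
      LocalSubring.range (algebraMap (X.presheaf.stalk x₂) X.functionField) :=
    LocalSubring.toSubring_injective (SetLike.coe_injective (by
      show ((algebraMap (X.presheaf.stalk x₁) X.functionField).range : Set X.functionField) =
        ((algebraMap (X.presheaf.stalk x₂) X.functionField).range : Set X.functionField)
      rw [key, key, h2 h]))
  exact Groth.L18.eq_of_localRing_le (le_refl _) hr.symm.le

/-- Birational morphisms from separated integral schemes to normal curves are open immersions. -/
theorem isOpenImmersion_of_birational [X.IsSeparated] [IsNoetherian X] [IsNoetherian Y]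
    [LocallyOfFiniteType f] (hdim : topologicalKrullDim Y = 1)
    (hN : ∀ y : Y, IsDomain (Y.presheaf.stalk y) ∧ IsIntegrallyClosed (Y.presheaf.stalk y)) :
    IsOpenImmersion f := by
  have hv : ∀ y : Y, ∃ _ : IsDomain (Y.presheaf.stalk y), ValuationRing (Y.presheaf.stalk y) := by
    intro y
    haveI := (hN y).1
    refine ⟨(hN y).1, ?_⟩
    rcases eq_or_ne y (genericPoint Y) with rfl | hy
    · exact inferInstanceAs (ValuationRing Y.functionField)
    · haveI := isDVR_stalk hdim.le hN hy
      infer_instance
  haveI : ∀ x, IsIso (f.stalkMap x) := fun x => by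
    obtain ⟨hd, hvx⟩ := hv (f x)
    exact (ConcreteCategory.isIso_iff_bijective (f.stalkMap x)).mpr (bijective_stalkMap f e hbij x)
  refine IsOpenImmersion.of_isIso_stalkMap f ?_
  refine Topology.IsOpenEmbedding.of_continuous_injective_isOpenMap f.continuous
    (injective_base f e hbij hv) fun U hU => ?_
  rcases U.eq_empty_or_nonempty with rfl | hne
  · simp
  have hη : genericPoint Y ∈ f '' U :=
    ⟨genericPoint X, (genericPoint_spec X).mem_open_set_iff hU |>.mpr (by simpa using hne), e⟩
  haveI : LocallyOfFinitePresentation f := inferInstance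
  have hc : Topology.IsConstructible (f '' U) :=
    f.isConstructible_image
      ((NoetherianSpace.isCompact U).isConstructible hU)
  rcases CurveTop.finite_or_cofinite_of_isConstructible hdim.le hc with h | h
  · exact absurd rfl (ne_genericPoint hdim (h.2 _ hη))
  · rw [← isClosed_compl_iff, ← Set.biUnion_of_singleton (f '' U)ᶜ]
    exact h.1.isClosed_biUnion fun y hy => h.2 y hy

end Groth.L21.Curve
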