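import Mathlib.AlgebraicGeometry.FunctionField
import Mathlib.AlgebraicGeometry.Noetherian
import Mathlib.AlgebraicGeometry.Stalk
import Mathlib.RingTheory.Spectrum.Prime.Noetherian

/-! A connected Noetherian scheme with domains as local rings is integral. -/

set_option autoImplicit false
universe u

open CategoryTheory AlgebraicGeometry TopologicalSpace

namespace Groth.L21.NormalTotal

theorem eq_of_mem_irreducibleComponents {X : Scheme.{u}} (x : X) [IsDomain (X.presheaf.stalk x)]
    {Z₁ Z₂ : Set X} (h₁ : Z₁ ∈ irreducibleComponents X) (h₂ : Z₂ ∈ irreducibleComponents X) (hx₁ : x ∈ Z₁)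
    (hx₂ : x ∈ Z₂) : Z₁ = Z₂ := by
  have key : ∀ Z ∈ irreducibleComponents X, x ∈ Z →
      Z = closure {X.fromSpecStalk x (⟨⊥, Ideal.isPrime_bot⟩ : PrimeSpectrum (X.presheaf.stalk x))} := by
    intro Z hZ hxZ
    obtain ⟨ξ, hξ⟩ := QuasiSober.sober hZ.1 (isClosed_of_mem_irreducibleComponents Z hZ)
    obtain ⟨p, hp⟩ : ξ ∈ Set.range (X.fromSpecStalk x) := by
      rw [Scheme.range_fromSpecStalk]
      exact hξ.specializes hxZ
    set η := X.fromSpecStalk x (⟨⊥, Ideal.isPrime_bot⟩ : PrimeSpectrum (X.presheaf.stalk x))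
    have hs : η ⤳ ξ := by
      rw [← hp]
      exact ((PrimeSpectrum.le_iff_specializes (⟨⊥, Ideal.isPrime_bot⟩ : PrimeSpectrum (X.presheaf.stalk x)) p).1
        bot_le).map (X.fromSpecStalk x).continuous
    have hle : Z ⊆ closure {η} := by
      rw [← hξ.def]
      exact closure_minimal (Set.singleton_subset_iff.2 hs.mem_closure) isClosed_closure
    exact subset_antisymm hle (hZ.2 isIrreducible_singleton.closure hle)
  exact (key Z₁ h₁ hx₁).trans (key Z₂ h₂ hx₂).symm

theorem isIntegral_of_connected {X : Scheme.{u}} [IsNoetherian X] [ConnectedSpace X]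
    (h : ∀ x : X, IsDomain (X.presheaf.stalk x)) : IsIntegral X := by
  haveI : ∀ x : X, _root_.IsReduced (X.presheaf.stalk x) := fun x => by haveI := h x; infer_instance
  haveI := isReduced_of_isReduced_stalk X
  obtain ⟨x₀⟩ := (inferInstance : Nonempty X)
  let Z := irreducibleComponent x₀
  have hZ : Z ∈ irreducibleComponents X := irreducibleComponent_mem_irreducibleComponents x₀
  have hcompl : Zᶜ = ⋃ W ∈ irreducibleComponents X \ {Z}, W := by
    ext y
    simp only [Set.mem_compl_iff, Set.mem_iUnion, Set.mem_diff, Set.mem_singleton_iff, exists_prop]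
    constructor
    · intro hy
      exact ⟨irreducibleComponent y, ⟨irreducibleComponent_mem_irreducibleComponents y,
        fun e => hy (e ▸ mem_irreducibleComponent)⟩, mem_irreducibleComponent⟩
    · rintro ⟨W, ⟨hW, hne⟩, hyW⟩ hyZ
      haveI := h y
      exact hne (eq_of_mem_irreducibleComponents y hW hZ hyW hyZ)
  have hclopen : IsClopen Z := by
    refine ⟨isClosed_irreducibleComponent, ?_⟩
    rw [← isClosed_compl_iff, hcompl]
    exact (NoetherianSpace.finite_irreducibleComponents.subset Set.diff_subset).isClosed_biUnion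
      fun W hW => isClosed_of_mem_irreducibleComponents W hW.1
  have huniv : Z = Set.univ := (isClopen_iff.1 hclopen).resolve_left
    (Set.Nonempty.ne_empty ⟨x₀, mem_irreducibleComponent⟩)
  haveI : IrreducibleSpace X :=
    { toPreirreducibleSpace := ⟨huniv ▸ isIrreducible_irreducibleComponent.2⟩, toNonempty := inferInstance }
  exact isIntegral_of_irreducibleSpace_of_isReduced X

end Groth.L21.NormalTotal
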