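import Groth.Agent.L21.Nodal.DeformFibre
import Groth.Agent.L21.Nodal.AlgNode
import Groth.Agent.L06.NormalAscent

/-! Normality of the total space of a flat family with reduced fibres and normal generic fibre. -/

set_option autoImplicit false
universe u

open CategoryTheory CategoryTheory.Limits AlgebraicGeometry IsLocalRing

noncomputable section

namespace Groth.L21.NormalTotal

/-- Serre's conditions at a point of a flat algebra with reduced closed fibre over a positive dimensional normal base. -/
theorem regular_or_two_le_depth_of_reduced (A B : Type u) [CommRing A] [IsLocalRing A] [IsNoetherianRing A] [CommRing B]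
    [IsLocalRing B] [IsNoetherianRing B] [Algebra A B] [IsLocalHom (algebraMap A B)] [Module.Flat A B]
    [IsDomain A] [IsIntegrallyClosed A] [IsReduced (EGA4.FibRing A B)] (hA0 : maximalIdeal A ≠ ⊥) :
    (IsRegularLocalRing B ∧ ringKrullDim B ≤ 1) ∨ 2 ≤ LocCoh.depth B B := by
  have hadd := Groth.L06.FlatFibre.depth_add_le A B
  by_cases hA : ringKrullDim A ≤ 1
  swap
  · exact Or.inr ((Groth.L06.NormalAscent.two_le_depth_of_normal hA).trans (le_self_add.trans hadd))
  by_cases hF : IsField (EGA4.FibRing A B)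
  · have hmB : EGA4.mB A B = maximalIdeal B := by
      refine le_antisymm (IsLocalRing.map_maximalIdeal_le _) fun x hx => ?_
      have := Ideal.mem_map_of_mem (Ideal.Quotient.mk (EGA4.mB A B)) hx
      rw [Groth.L06.FlatFibre.map_maximalIdeal_fibRing, IsLocalRing.isField_iff_maximalIdeal_eq.1 hF,
        Submodule.mem_bot] at this
      exact Ideal.Quotient.eq_zero_iff_mem.mp this
    haveI := Groth.L06.NormalAscent.regular_of_normal_dim_le_one hA
    obtain ⟨hr, hd⟩ := Groth.L21.Smooth.regular_of_flat_of_map_maximalIdeal A B hmB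
    exact Or.inl ⟨hr, hd.trans_le hA⟩
  obtain ⟨b, hb, hb0⟩ := Submodule.exists_mem_ne_zero_of_ne_bot hA0
  have h1 : 1 ≤ LocCoh.depth A A := Groth.L01.one_le_depth hb
    (isSMulRegular_iff_right_eq_zero_of_smul.mpr fun c hc => (mul_eq_zero.mp hc).resolve_left hb0)
  obtain ⟨z, hz, hreg⟩ := Groth.L21.Nodal.exists_mem_nonZeroDivisors (A := EGA4.FibRing A B) hF
  have h2 : 1 ≤ LocCoh.depth (EGA4.FibRing A B) (EGA4.FibRing A B) := Groth.L01.one_le_depth hz
    (isSMulRegular_iff_right_eq_zero_of_smul.mpr hreg)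
  exact Or.inr (le_trans (by simpa [one_add_one_eq_two] using add_le_add h1 h2) hadd)

theorem eq_genericPoint_of_isField {S : Scheme.{u}} [IsIntegral S] (s : S) (h : IsField (S.presheaf.stalk s)) :
    s = genericPoint S := by
  letI := h.toField
  have hmem : genericPoint S ∈ Set.range (S.fromSpecStalk s) := by
    rw [Scheme.range_fromSpecStalk]
    exact genericPoint_specializes s
  obtain ⟨c, hc⟩ := hmem
  obtain ⟨c', hc'⟩ : s ∈ Set.range (S.fromSpecStalk s) := by
    rw [Scheme.range_fromSpecStalk]; exact specializes_rfl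
  have : Subsingleton (PrimeSpectrum (S.presheaf.stalk s)) := inferInstance
  exact hc'.symm.trans ((congrArg _ (Subsingleton.elim (α := PrimeSpectrum (S.presheaf.stalk s)) c' c)).trans hc)

theorem isField_stalk_genericPoint' (S : Scheme.{u}) [IsIntegral S] : IsField (S.presheaf.stalk (genericPoint S)) :=
  Field.toIsField S.functionField

/-- A flat family with reduced fibres over a normal base is normal if it is normal over the generic point. -/
theorem isNormalScheme_of_flat {X S : Scheme.{u}} [IsIntegral S] [IsLocallyNoetherian S] (f : X ⟶ S) [Flat f]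
    [LocallyOfFiniteType f] (hS : Pi1.IsNormalScheme S) (hred : ∀ s, IsReduced (f.fiber s))
    (hgen : ∀ x, f x = genericPoint S → IsDomain (X.presheaf.stalk x) ∧ IsIntegrallyClosed (X.presheaf.stalk x)) :
    Pi1.IsNormalScheme X := by
  haveI : IsLocallyNoetherian X := LocallyOfFiniteType.isLocallyNoetherian f
  have key : ∀ y : X, (IsRegularLocalRing (X.presheaf.stalk y) ∧ ringKrullDim (X.presheaf.stalk y) ≤ 1) ∨
      2 ≤ LocCoh.depth (X.presheaf.stalk y) (X.presheaf.stalk y) := by
    intro y
    by_cases hy : f y = genericPoint S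
    · haveI := (hgen y hy).1
      haveI := (hgen y hy).2
      by_cases hd : ringKrullDim (X.presheaf.stalk y) ≤ 1
      · exact Or.inl ⟨Groth.L06.NormalAscent.regular_of_normal_dim_le_one hd, hd⟩
      · exact Or.inr (Groth.L06.NormalAscent.two_le_depth_of_normal hd)
    letI : Algebra (S.presheaf.stalk (f y)) (X.presheaf.stalk y) := (f.stalkMap y).hom.toAlgebra
    haveI : IsLocalHom (algebraMap (S.presheaf.stalk (f y)) (X.presheaf.stalk y)) :=
      inferInstanceAs (IsLocalHom (f.stalkMap y).hom)
    haveI : Module.Flat (S.presheaf.stalk (f y)) (X.presheaf.stalk y) := Flat.stalkMap f y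
    haveI := (hS (f y)).1
    haveI := (hS (f y)).2
    haveI := hred (f y)
    obtain ⟨π, hπ, hker, -⟩ := Groth.L21.Nodal.exists_fibre_stalk_hom f y
    let e : EGA4.FibRing (S.presheaf.stalk (f y)) (X.presheaf.stalk y) ≃+* (f.fiber (f y)).presheaf.stalk (f.asFiber y) :=
      (Ideal.quotEquivOfEq hker.symm).trans (RingHom.quotientKerEquivOfSurjective hπ)
    haveI : _root_.IsReduced (EGA4.FibRing (S.presheaf.stalk (f y)) (X.presheaf.stalk y)) := ⟨fun z hz =>
      e.injective ((hz.map e.toRingHom).eq_zero.trans (map_zero e).symm)⟩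
    exact regular_or_two_le_depth_of_reduced _ _ fun h =>
      hy (eq_genericPoint_of_isField (f y) (IsLocalRing.isField_iff_maximalIdeal_eq.2 h))
  intro x
  obtain ⟨V, hV, hxV, -⟩ := exists_isAffineOpen_mem_and_subset (X := X) (U := ⊤) (x := x) trivial
  haveI : IsNoetherianRing Γ(X, V) := IsLocallyNoetherian.component_noetherian ⟨V, hV⟩
  have hN : EGA4.IsNormalRing Γ(X, V) := Groth.L06.NormalAscent.isNormalRing_of_serre fun P hP => by
    let y : X := hV.fromSpec ⟨P, hP⟩
    have hyV : y ∈ V := hV.range_fromSpec.le ⟨_, rfl⟩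
    letI := X.presheaf.algebra_section_stalk ⟨y, hyV⟩
    haveI hloc : IsLocalization.AtPrime (X.presheaf.stalk y) (hV.primeIdealOf ⟨y, hyV⟩).asIdeal :=
      hV.isLocalization_stalk ⟨y, hyV⟩
    have hp : hV.primeIdealOf ⟨y, hyV⟩ = ⟨P, hP⟩ :=
      hV.fromSpec.isOpenEmbedding.injective (hV.fromSpec_primeIdealOf ⟨y, hyV⟩)
    rw [hp] at hloc
    haveI : IsLocalization.AtPrime (X.presheaf.stalk y) P := hloc
    let e : X.presheaf.stalk y ≃+* Localization.AtPrime P :=
      (IsLocalization.algEquiv P.primeCompl (X.presheaf.stalk y) (Localization.AtPrime P)).toRingEquiv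
    rcases key y with ⟨hr, hd⟩ | hd
    · exact Or.inl ⟨IsRegularLocalRing.of_ringEquiv e, by rwa [← ringKrullDim_eq_of_ringEquiv e]⟩
    · exact Or.inr (by rwa [Groth.L06.FlatFibre.depth_eq_of_ringEquiv e])
  letI := X.presheaf.algebra_section_stalk ⟨x, hxV⟩
  haveI : IsLocalization.AtPrime (X.presheaf.stalk x) (hV.primeIdealOf ⟨x, hxV⟩).asIdeal :=
    hV.isLocalization_stalk ⟨x, hxV⟩
  let e : Localization.AtPrime (hV.primeIdealOf ⟨x, hxV⟩).asIdeal ≃+* X.presheaf.stalk x :=
    (IsLocalization.algEquiv (hV.primeIdealOf ⟨x, hxV⟩).asIdeal.primeCompl _ (X.presheaf.stalk x)).toRingEquiv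
  obtain ⟨h1, h2⟩ := hN (hV.primeIdealOf ⟨x, hxV⟩).asIdeal
  haveI := h1
  haveI := h2
  exact ⟨e.symm.toMulEquiv.isDomain _, IsIntegrallyClosed.of_equiv e⟩

end Groth.L21.NormalTotal
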