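import Groth.Agent.L21.CurveFlat
import Mathlib.Topology.KrullDimension
import Mathlib.RingTheory.DedekindDomain.Dvr

/-!
Closed points of normal integral curves have discrete valuation rings as stalks.
-/

set_option autoImplicit false
universe u

open CategoryTheory AlgebraicGeometry TopologicalSpace

namespace Groth.L21.Curve

variable {C : Scheme.{u}} [IsIntegral C]

/-- A closed point of a positive-dimensional integral scheme is not the generic point. -/
theorem ne_genericPoint (hdim : topologicalKrullDim C = 1) {y : C} (hy : IsClosed ({y} : Set C)) :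
    y ≠ genericPoint C := by
  rintro rfl
  have h : closure ({genericPoint C} : Set C) = Set.univ := genericPoint_spec C
  rw [hy.closure_eq] at h
  haveI : Subsingleton C := ⟨fun a b => by
    have ha : a ∈ ({genericPoint C} : Set C) := h ▸ Set.mem_univ a
    have hb : b ∈ ({genericPoint C} : Set C) := h ▸ Set.mem_univ b
    rw [Set.mem_singleton_iff.mp ha, Set.mem_singleton_iff.mp hb]⟩
  haveI : Subsingleton (IrreducibleCloseds C) := ⟨fun a b => by
    refine IrreducibleCloseds.ext ?_
    rw [Subsingleton.eq_univ_of_nonempty a.isIrreducible.nonempty,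
      Subsingleton.eq_univ_of_nonempty b.isIrreducible.nonempty]⟩
  have h2 : topologicalKrullDim C ≤ 0 := Order.krullDim_nonpos_iff_forall_isMax.mpr
    fun a b _ => (Subsingleton.elim b a).le
  rw [hdim] at h2
  exact absurd h2 (by decide)

/-- Stalks at non-generic points of normal Noetherian integral curves are DVRs. -/
theorem isDVR_stalk [IsLocallyNoetherian C] (hdim : topologicalKrullDim C ≤ 1)
    (hN : ∀ x : C, IsDomain (C.presheaf.stalk x) ∧ IsIntegrallyClosed (C.presheaf.stalk x))
    {y : C} (hy : y ≠ genericPoint C) : IsDiscreteValuationRing (C.presheaf.stalk y) := by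
  obtain ⟨V, hV, hyV, -⟩ := exists_isAffineOpen_mem_and_subset (X := C) (U := ⊤) (Opens.mem_top y)
  haveI : Nonempty V := ⟨⟨y, hyV⟩⟩
  haveI := isDedekindDomain_of_normal hdim hN hV
  letI := C.presheaf.algebra_section_stalk ⟨y, hyV⟩
  haveI := hV.isLocalization_stalk ⟨y, hyV⟩
  refine IsLocalization.AtPrime.isDiscreteValuationRing_of_dedekind_domain Γ(C, V) ?_
    (C.presheaf.stalk y) (pP := (hV.primeIdealOf ⟨y, hyV⟩).2)
  intro hbot
  apply hy
  have hg : genericPoint C ∈ V :=
    (genericPoint_spec C).mem_open_set_iff V.isOpen |>.mpr ⟨y, trivial, hyV⟩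
  haveI : IsDomain Γ(C, V) := inferInstance
  have h : hV.primeIdealOf ⟨y, hyV⟩ = hV.primeIdealOf ⟨genericPoint C, hg⟩ := by
    rw [hV.primeIdealOf_genericPoint, genericPoint_eq_bot_of_affine]
    exact PrimeSpectrum.ext hbot
  have h1 := hV.fromSpec_primeIdealOf ⟨y, hyV⟩
  rw [h, hV.fromSpec_primeIdealOf] at h1
  exact h1.symm

/-- Closed points of normal curves. -/
theorem isDVR_stalk_closed [IsLocallyNoetherian C] (hdim : topologicalKrullDim C = 1)
    (hN : ∀ x : C, IsDomain (C.presheaf.stalk x) ∧ IsIntegrallyClosed (C.presheaf.stalk x))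
    {y : C} (hy : IsClosed ({y} : Set C)) : IsDiscreteValuationRing (C.presheaf.stalk y) :=
  isDVR_stalk hdim.le hN (ne_genericPoint hdim hy)

end Groth.L21.Curve
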