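import Groth.Agent.L21.Curve.DVR
import Groth.Agent.L21.Smooth.Scheme
import Mathlib.AlgebraicGeometry.Morphisms.Etale
import Mathlib.RingTheory.Smooth.Fiber
import Mathlib.RingTheory.Unramified.LocalRing
import Mathlib.RingTheory.Jacobson.Ring
import Mathlib.FieldTheory.IsAlgClosed.Basic

/-!
Pointwise criterion for étaleness.
-/

set_option autoImplicit false
universe u

open CategoryTheory AlgebraicGeometry TopologicalSpace IsLocalRing

namespace Groth.L21.EtalePoint

variable {X Y : Scheme.{u}} (f : X ⟶ Y)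

theorem etale_ι_comp_iff {U : Y.Opens} (hU : IsAffineOpen U) {V : X.Opens} (hV : IsAffineOpen V)
    (e : V ≤ f ⁻¹ᵁ U) : Etale (V.ι ≫ f) ↔ (f.appLE U V e).hom.Etale := by
  have h : V.ι ≫ f = hV.isoSpec.hom ≫ (Spec.map (f.appLE U V e) ≫ hU.fromSpec) := by
    rw [IsAffineOpen.SpecMap_appLE_fromSpec f hU hV e, IsAffineOpen.fromSpec,
      ← Category.assoc hV.isoSpec.hom, Iso.hom_inv_id_assoc]
  rw [h, MorphismProperty.cancel_left_of_respectsIso (P := @Etale), ← HasRingHomProperty.Spec_iff (P := @Etale)]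
  exact ⟨fun _ => Etale.of_comp _ hU.fromSpec, fun _ => inferInstance⟩

theorem map_primeIdeal_eq_iff {U : Y.Opens} (hU : IsAffineOpen U) {V : X.Opens} (hV : IsAffineOpen V)
    (e : V ≤ f ⁻¹ᵁ U) {x : X} (hx : x ∈ V) :
    (hU.primeIdealOf ⟨f x, e hx⟩).asIdeal.map ((algebraMap Γ(X, V)
        (Localization.AtPrime (hV.primeIdealOf ⟨x, hx⟩).asIdeal)).comp (f.appLE U V e).hom) =
      maximalIdeal _ ↔
    (maximalIdeal (Y.presheaf.stalk (f x))).map (f.stalkMap x).hom =
      maximalIdeal (X.presheaf.stalk x) := by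
  letI := X.presheaf.algebra_section_stalk ⟨x, hx⟩
  letI := Y.presheaf.algebra_section_stalk ⟨f x, e hx⟩
  haveI := hV.isLocalization_stalk ⟨x, hx⟩
  haveI := hU.isLocalization_stalk ⟨f x, e hx⟩
  set p := (hU.primeIdealOf ⟨f x, e hx⟩).asIdeal
  set q := (hV.primeIdealOf ⟨x, hx⟩).asIdeal
  let ψ := IsLocalization.algEquiv q.primeCompl (Localization.AtPrime q) (X.presheaf.stalk x)
  have hm : maximalIdeal (Y.presheaf.stalk (f x)) =
      p.map (algebraMap Γ(Y, U) (Y.presheaf.stalk (f x))) :=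
    (IsLocalization.AtPrime.map_eq_maximalIdeal p (Y.presheaf.stalk (f x))).symm
  have hc : (f.stalkMap x).hom.comp (algebraMap Γ(Y, U) (Y.presheaf.stalk (f x))) =
      (ψ.toRingEquiv.toRingHom.comp
        ((algebraMap Γ(X, V) (Localization.AtPrime q)).comp (f.appLE U V e).hom)) := by
    refine RingHom.ext fun r => ?_
    show f.stalkMap x (Y.presheaf.germ U (f x) (e hx) r) =
      ψ (algebraMap Γ(X, V) (Localization.AtPrime q) (f.appLE U V e r))
    rw [AlgEquiv.commutes, f.germ_stalkMap_apply]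
    show _ = X.presheaf.germ V x hx (f.appLE U V e r)
    simp [Scheme.Hom.appLE, TopCat.Presheaf.germ_res_apply]
  set g := (algebraMap Γ(X, V) (Localization.AtPrime q)).comp (f.appLE U V e).hom
  have hψ : (maximalIdeal (Localization.AtPrime q)).map ψ.toRingEquiv.toRingHom =
      maximalIdeal (X.presheaf.stalk x) :=
    IsLocalRing.eq_maximalIdeal (Ideal.map_isMaximal_of_equiv ψ.toRingEquiv)
  have hinj : Function.Injective (Ideal.map ψ.toRingEquiv.toRingHom) := fun I J h => by
    rw [← Ideal.comap_map_of_bijective ψ.toRingEquiv.toRingHom ψ.toRingEquiv.bijective (I := I),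
      ← Ideal.comap_map_of_bijective ψ.toRingEquiv.toRingHom ψ.toRingEquiv.bijective (I := J), h]
  rw [hm, Ideal.map_map, hc, ← hψ, ← Ideal.map_map g ψ.toRingEquiv.toRingHom]
  exact hinj.eq_iff.symm

theorem isMaximal_primeIdealOf {V : X.Opens} (hV : IsAffineOpen V) {x : X} (hx : x ∈ V)
    (hc : IsClosed ({x} : Set X)) : (hV.primeIdealOf ⟨x, hx⟩).asIdeal.IsMaximal := by
  rw [← PrimeSpectrum.isClosed_singleton_iff_isMaximal]
  have h := hV.fromSpec_primeIdealOf ⟨x, hx⟩
  have : ({hV.primeIdealOf ⟨x, hx⟩} : Set (Spec Γ(X, V))) = hV.fromSpec ⁻¹' {x} := by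
    ext z
    simp only [Set.mem_singleton_iff, Set.mem_preimage]
    exact ⟨fun hz => hz ▸ h, fun hz => hV.fromSpec.isOpenEmbedding.injective (hz.trans h.symm)⟩
  exact this ▸ hc.preimage hV.fromSpec.continuous

theorem isClosed_of_ne_generic {x : X} [IsIntegral X] (hx : x ≠ genericPoint X)
    (hdim : topologicalKrullDim X ≤ 1) [IsNoetherian X] : IsClosed ({x} : Set X) := by
  obtain ⟨z, hz⟩ := CurveTop.exists_eq_singleton hdim isClosed_closure
    (isIrreducible_singleton (x := x)).closure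
    (fun h => hx (((genericPoint_spec X).eq (h : IsGenericPoint x Set.univ)).symm))
  have : x = z := hz.subset (subset_closure rfl)
  exact this ▸ hz ▸ isClosed_closure

section Curves

variable {k : Type u} [Field k] [IsAlgClosed k] (pX : X ⟶ Spec (CommRingCat.of k))

theorem surjective_residueField {V : X.Opens} (hV : IsAffineOpen V) [LocallyOfFiniteType pX]
    {x : X} (hx : x ∈ V) (hc : IsClosed ({x} : Set X)) {U : Y.Opens} (hU : IsAffineOpen U)
    (e : V ≤ f ⁻¹ᵁ U) (pY : Y ⟶ Spec (CommRingCat.of k)) (w : f ≫ pY = pX) :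
    Function.Surjective ((algebraMap Γ(X, V) (hV.primeIdealOf ⟨x, hx⟩).asIdeal.ResidueField).comp
      (f.appLE U V e).hom) := by
  haveI := isMaximal_primeIdealOf hV hx hc
  set q := (hV.primeIdealOf ⟨x, hx⟩).asIdeal
  let φ : k →+* Γ(X, V) := (pX.appLE ⊤ V le_top).hom.comp (Scheme.ΓSpecIso (CommRingCat.of k)).inv.hom
  have hφ : φ.FiniteType := (pX.finiteType_appLE (isAffineOpen_top _) hV le_top).comp
    (RingHom.FiniteType.of_surjective _
      (ConcreteCategory.bijective_of_isIso (Scheme.ΓSpecIso (CommRingCat.of k)).inv).2)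
  letI := φ.toAlgebra
  haveI : Algebra.FiniteType k Γ(X, V) := hφ
  letI : Field (Γ(X, V) ⧸ q) := Ideal.Quotient.field q
  haveI : Module.Finite k (Γ(X, V) ⧸ q) :=
    haveI : IsJacobsonRing k := inferInstance
    finite_of_finite_type_of_isJacobsonRing k (Γ(X, V) ⧸ q)
  haveI : Algebra.IsAlgebraic k (Γ(X, V) ⧸ q) := Algebra.IsAlgebraic.of_finite k _
  have hs := IsAlgClosed.algebraMap_bijective_of_isIntegral (k := k) (K := Γ(X, V) ⧸ q)
  intro z
  obtain ⟨a, rfl⟩ := q.algebraMap_residueField_surjective z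
  obtain ⟨c, hc'⟩ := hs.2 (Ideal.Quotient.mk q a)
  refine ⟨pY.appLE ⊤ U le_top ((Scheme.ΓSpecIso (CommRingCat.of k)).inv c), ?_⟩
  have h1 : f.appLE U V e (pY.appLE ⊤ U le_top ((Scheme.ΓSpecIso (CommRingCat.of k)).inv c)) = φ c := by
    have h0 : pY.appLE ⊤ U le_top ≫ f.appLE U V e = (f ≫ pY).appLE ⊤ V le_top :=
      Scheme.Hom.appLE_comp_appLE f pY ⊤ U V le_top e
    subst w
    exact ConcreteCategory.congr_hom h0 _
  rw [RingHom.comp_apply, h1, IsScalarTower.algebraMap_apply Γ(X, V) (Γ(X, V) ⧸ q) q.ResidueField,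
    IsScalarTower.algebraMap_apply Γ(X, V) (Γ(X, V) ⧸ q) q.ResidueField a]
  exact congrArg _ hc'

theorem isSeparable_of_surjective {F K : Type*} [Field F] [Field K] [Algebra F K]
    (h : Function.Surjective (algebraMap F K)) : Algebra.IsSeparable F K :=
  ⟨fun z => by obtain ⟨a, rfl⟩ := h z; exact isSeparable_algebraMap a⟩

/-- Étaleness of a morphism of smooth curves at a closed point. -/
theorem etale_nhd_iff (pY : Y ⟶ Spec (CommRingCat.of k)) (w : f ≫ pY = pX)
    [IsIntegral X] [Smooth pX] [QuasiCompact pX] (hdX : topologicalKrullDim X = 1)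
    [IsIntegral Y] [Smooth pY] [QuasiCompact pY] (hdY : topologicalKrullDim Y = 1)
    (x : X) (hx : IsClosed ({x} : Set X)) :
    (∃ U : X.Opens, x ∈ U ∧ Etale (U.ι ≫ f)) ↔
      (maximalIdeal (Y.presheaf.stalk (f x))).map (f.stalkMap x).hom =
        maximalIdeal (X.presheaf.stalk x) := by
  haveI : IsLocallyNoetherian X := LocallyOfFiniteType.isLocallyNoetherian pX
  haveI : IsLocallyNoetherian Y := LocallyOfFiniteType.isLocallyNoetherian pY
  haveI : CompactSpace X := QuasiCompact.compactSpace_of_compactSpace pX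
  haveI : CompactSpace Y := QuasiCompact.compactSpace_of_compactSpace pY
  haveI : IsNoetherian X := ⟨⟩
  haveI : IsNoetherian Y := ⟨⟩
  haveI : LocallyOfFiniteType (f ≫ pY) := by rw [w]; infer_instance
  haveI : LocallyOfFiniteType f := locallyOfFiniteType_of_comp f pY
  haveI : LocallyOfFinitePresentation f := inferInstance
  constructor
  · rintro ⟨W, hxW, hW⟩
    obtain ⟨U, hU, hfxU, -⟩ := exists_isAffineOpen_mem_and_subset (X := Y) (U := ⊤) (Opens.mem_top (f x))
    obtain ⟨V, hV, hxV, hVW⟩ := exists_isAffineOpen_mem_and_subset (X := X) (U := W ⊓ f ⁻¹ᵁ U) (x := x) ⟨hxW, hfxU⟩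
    have hVW' : V ≤ W := hVW.trans inf_le_left
    have e : V ≤ f ⁻¹ᵁ U := hVW.trans inf_le_right
    have hVf : Etale (V.ι ≫ f) := by
      rw [← X.homOfLE_ι hVW', Category.assoc]; infer_instance
    have hA := (etale_ι_comp_iff f hU hV e).mp hVf
    rw [← map_primeIdeal_eq_iff f hU hV e hxV]
    algebraize [(f.appLE U V e).hom]
    set p := (hU.primeIdealOf ⟨f x, e hxV⟩).asIdeal
    set q := (hV.primeIdealOf ⟨x, hxV⟩).asIdeal
    haveI : q.LiesOver p := ⟨(congrArg PrimeSpectrum.asIdeal
      (IsAffineOpen.comap_primeIdealOf_appLE U hU V hV e hxV)).symm⟩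
    letI := Localization.AtPrime.algebraOfLiesOver p q
    exact ((Algebra.isUnramifiedAt_iff_map_eq Γ(Y, U) p q).mp inferInstance).2
  · intro hmap
    have hNY : ∀ y : Y, IsDomain (Y.presheaf.stalk y) ∧ IsIntegrallyClosed (Y.presheaf.stalk y) :=
      fun y => ⟨Groth.L21.Smooth.isDomain_stalk pY y, Groth.L21.Smooth.isIntegrallyClosed_stalk pY y⟩
    haveI := Curve.isDVR_stalk_closed hdX (fun z => ⟨Groth.L21.Smooth.isDomain_stalk pX z,
      Groth.L21.Smooth.isIntegrallyClosed_stalk pX z⟩) hx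
    have hm0 : maximalIdeal (X.presheaf.stalk x) ≠ ⊥ := IsDiscreteValuationRing.not_a_field _
    have key : ∀ y, y = genericPoint Y → maximalIdeal (Y.presheaf.stalk y) = ⊥ := by
      rintro y rfl
      exact IsLocalRing.isField_iff_maximalIdeal_eq.mp (Field.toIsField Y.functionField)
    have hy : f x ≠ genericPoint Y := fun h => hm0 (by rw [← hmap, key _ h, Ideal.map_bot])
    have hyc := isClosed_of_ne_generic hy hdY.le
    have hη : f (genericPoint X) ≠ f x := by
      intro h
      apply hm0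
      rw [← hmap, eq_bot_iff, Ideal.map_le_iff_le_comap]
      intro b hb
      have hsp : genericPoint X ⤳ x := (genericPoint_spec X).specializes trivial
      show f.stalkMap x b ∈ (⊥ : Ideal _)
      rw [Ideal.mem_bot]
      apply IsFractionRing.injective (X.presheaf.stalk x) X.functionField
      rw [map_zero]
      have h1 := ConcreteCategory.congr_hom (f.stalkSpecializes_stalkMap _ _ hsp) b
      refine h1.symm.trans ?_
      show f.stalkMap (genericPoint X) (Y.presheaf.stalkSpecializes _ b) = 0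
      set c := Y.presheaf.stalkSpecializes (f.base.hom.map_specializes hsp) b with hc
      by_contra hne
      have hu : IsUnit c := isUnit_of_map_unit (f.stalkMap (genericPoint X)).hom c
        (isUnit_iff_ne_zero.mpr hne : IsUnit (show X.functionField from f.stalkMap (genericPoint X) c))
      have hiso : ∀ {y z : Y} (h : y ⤳ z), y = z →
          ∀ t, IsUnit (Y.presheaf.stalkSpecializes h t) → IsUnit t := by
        rintro y _ h rfl t ht
        simpa using ht
      exact hb (hiso _ h b hu)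
    haveI : Flat f := flat_of_nonconstant hdY.le hNY f
      ⟨f (genericPoint X), ⟨_, rfl⟩, f x, ⟨_, rfl⟩, hη⟩
    obtain ⟨U, hU, hfxU, -⟩ := exists_isAffineOpen_mem_and_subset (X := Y) (U := ⊤) (Opens.mem_top (f x))
    obtain ⟨V, hV, hxV, hVU⟩ := exists_isAffineOpen_mem_and_subset (X := X) (U := f ⁻¹ᵁ U) (x := x) hfxU
    have e : V ≤ f ⁻¹ᵁ U := hVU
    have hflat := f.flat_appLE hU hV e
    have hfp : (f.appLE U V e).hom.FinitePresentation := f.finitePresentation_appLE hU hV e
    have hres := surjective_residueField f pX hV hxV hx hU e pY w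
    rw [← map_primeIdeal_eq_iff f hU hV e hxV] at hmap
    algebraize [(f.appLE U V e).hom]
    set p := (hU.primeIdealOf ⟨f x, e hxV⟩).asIdeal
    set q := (hV.primeIdealOf ⟨x, hxV⟩).asIdeal
    haveI : q.LiesOver p := ⟨(congrArg PrimeSpectrum.asIdeal
      (IsAffineOpen.comap_primeIdealOf_appLE U hU V hV e hxV)).symm⟩
    letI := Localization.AtPrime.algebraOfLiesOver p q
    haveI : Algebra.IsSeparable p.ResidueField q.ResidueField :=
      isSeparable_of_surjective fun z => by
        obtain ⟨r, hr⟩ := hres z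
        exact ⟨algebraMap _ _ r, by
          rw [← IsScalarTower.algebraMap_apply, IsScalarTower.algebraMap_apply Γ(Y, U) Γ(X, V)]
          exact hr⟩
    haveI : Algebra.IsUnramifiedAt Γ(Y, U) q :=
      (Algebra.isUnramifiedAt_iff_map_eq Γ(Y, U) p q).mpr ⟨inferInstance, hmap⟩
    haveI := Algebra.IsEtaleAt.of_isUnramifiedAt_of_flat (R := Γ(Y, U)) q
    obtain ⟨g, hg, hgé⟩ := Algebra.exists_etale_of_isEtaleAt (R := Γ(Y, U)) q
    refine ⟨X.basicOpen g, ?_, ?_⟩
    · have h : hV.primeIdealOf ⟨x, hxV⟩ ∈ hV.fromSpec ⁻¹ᵁ X.basicOpen g := by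
        rw [hV.fromSpec_preimage_basicOpen]
        exact hg
      have h2 : hV.fromSpec (hV.primeIdealOf ⟨x, hxV⟩) = x := hV.fromSpec_primeIdealOf ⟨x, hxV⟩
      exact h2 ▸ h
    · have hle : X.basicOpen g ≤ f ⁻¹ᵁ U := (X.basicOpen_le g).trans e
      rw [etale_ι_comp_iff f hU (hV.basicOpen g) hle]
      haveI := hV.isLocalization_basicOpen g
      let θ := IsLocalization.algEquiv (Submonoid.powers g) (Localization.Away g) Γ(X, X.basicOpen g)
      have h := RingHom.Etale.respectsIso.1 (algebraMap Γ(Y, U) (Localization.Away g)) θ.toRingEquiv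
        (RingHom.etale_algebraMap.mpr hgé)
      convert! h using 1
      rw [IsScalarTower.algebraMap_eq Γ(Y, U) Γ(X, V) (Localization.Away g), ← RingHom.comp_assoc]
      have : θ.toRingEquiv.toRingHom.comp (algebraMap Γ(X, V) (Localization.Away g)) =
          algebraMap Γ(X, V) Γ(X, X.basicOpen g) := RingHom.ext θ.commutes
      erw [this]
      exact (congrArg CommRingCat.Hom.hom (f.appLE_map (U := U) e (homOfLE (X.basicOpen_le g)).op)).symm

end Curves

end Groth.L21.EtalePoint
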